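import Mathlib
import Cfsg.Prelude.Def_Solvable
import Cfsg.Agent.Lib.Basic
import Cfsg.Agent.Lib.Elementary
import Cfsg.Agent.Lib.MaxClassRank

/-! Toward S3865: an element with centraliser of order `p ^ 2` in a Sylow `p`-subgroup lying outside a
normal subgroup `N` has centraliser in `N` of order not divisible by `p ^ 2`; a normal subgroup
meeting the Sylow subgroup in order `p` inside its Frattini subgroup is contained in it. -/

set_option autoImplicit false
set_option linter.unusedSectionVars false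
set_option linter.style.haveILetI false

namespace CfsgLib.MaxClassFusion

open Subgroup
open scoped commutatorElement

universe u

variable {p : ℕ} [hp : Fact p.Prime]

theorem card_map_conj {G : Type u} [Group G] (D : Subgroup G) (c : G) :
    Nat.card ↥(D.map (MulAut.conj c).toMonoidHom) = Nat.card D :=
  Subgroup.card_map_of_injective (MulAut.conj c).injective

theorem mem_map_conj {G : Type u} [Group G] (D : Subgroup G) (c : G) {d : G} (hd : d ∈ D) :
    c * d * c⁻¹ ∈ D.map (MulAut.conj c).toMonoidHom :=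
  ⟨d, hd, by simp⟩

/-- In a subgroup whose order is not divisible by `p ^ (k + 1)`, subgroups of order `p ^ k` absorb
conjugates of `p`-subgroups. -/
theorem exists_conj_le {G : Type u} [Group G] [Finite G] {K A D : Subgroup G} (hAK : A ≤ K) (hDK : D ≤ K)
    {k : ℕ} (hA : Nat.card A = p ^ k) (hD : IsPGroup p D) (hK : ¬ p ^ (k + 1) ∣ Nat.card K) :
    ∃ c ∈ K, D.map (MulAut.conj c).toMonoidHom ≤ A := by
  have hA' : IsPGroup p ↥(A.subgroupOf K) :=
    (IsPGroup.of_card hA).of_equiv (subgroupOfEquivOfLe hAK).symm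
  have hD' : IsPGroup p ↥(D.subgroupOf K) := hD.of_equiv (subgroupOfEquivOfLe hDK).symm
  obtain ⟨Q, hQ⟩ := hA'.exists_le_sylow
  obtain ⟨R, hR⟩ := hD'.exists_le_sylow
  have hQA : (Q : Subgroup K) = A.subgroupOf K := by
    refine (eq_of_le_of_card_ge hQ ?_).symm
    rw [Nat.card_congr (subgroupOfEquivOfLe hAK).toEquiv, hA]
    obtain ⟨j, hj⟩ := IsPGroup.iff_card.mp Q.2
    rw [hj]
    refine Nat.pow_le_pow_right hp.out.pos ?_
    by_contra h
    exact hK ((pow_dvd_pow p (show k + 1 ≤ j by omega)).trans (hj ▸ card_subgroup_dvd_card (Q : Subgroup K)))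
  obtain ⟨c, hc⟩ := MulAction.exists_smul_eq K R Q
  refine ⟨c, c.2, ?_⟩
  rintro - ⟨d, hd, rfl⟩
  have h1 : MulAut.conj c ⟨d, hDK hd⟩ ∈ (Q : Subgroup K) := by
    rw [← hc]
    exact ⟨⟨d, hDK hd⟩, hR (mem_subgroupOf.mpr hd), rfl⟩
  rw [hQA, mem_subgroupOf] at h1
  simpa using h1

/-- The order of a `p`-subgroup of a normal subgroup is bounded by that of the trace of a Sylow subgroup. -/
theorem card_le_inf_sylow {G : Type u} [Group G] [Finite G] (P : Sylow p G) {N S : Subgroup G} [hN : N.Normal]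
    (hSN : S ≤ N) (hS : IsPGroup p S) : Nat.card S ≤ Nat.card ↥(N ⊓ (P : Subgroup G)) := by
  obtain ⟨Q, hQ⟩ := hS.exists_le_sylow
  obtain ⟨g, hg⟩ := MulAction.exists_smul_eq G Q P
  rw [← card_map_conj S g]
  refine card_le_of_le ?_
  rintro - ⟨s, hs, rfl⟩
  refine mem_inf.mpr ⟨hN.conj_mem s (hSN hs) g, ?_⟩
  rw [← hg]
  exact ⟨s, hQ hs, rfl⟩

theorem not_dvd_of_trace {G : Type u} [Group G] [Finite G] (P : Sylow p G) (N : Subgroup G) [N.Normal] {m : ℕ}
    (hm : Nat.card ↥(N ⊓ (P : Subgroup G)) = p ^ m) {K : Subgroup G} (hK : K ≤ N) : ¬ p ^ (m + 1) ∣ Nat.card K := by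
  intro h
  obtain ⟨S, hS⟩ := Sylow.exists_subgroup_card_pow_prime p h
  have h1 := card_le_inf_sylow P (N := N) (S := S.map K.subtype) ((map_subtype_le S).trans hK)
    ((IsPGroup.of_card hS).map _)
  rw [Subgroup.card_map_of_injective K.subtype_injective, hS, hm, Nat.pow_le_pow_iff_right hp.out.one_lt] at h1
  omega

/-- A normal subgroup of a `p`-group, not trivial, contains a central element of order `p`. -/
theorem exists_central_orderOf {S : Type u} [Group S] [Finite S] (hS : IsPGroup p S) (M : Subgroup S) [M.Normal]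
    (hM : M ≠ ⊥) : ∃ z ∈ M, z ∈ center S ∧ orderOf z = p := by
  have := hS.isNilpotent
  have h := CfsgLib.inf_center_ne_bot_of_nilpotent hM
  obtain ⟨j, hj⟩ := IsPGroup.iff_card.mp (hS.to_subgroup (M ⊓ center S))
  have hj0 : j ≠ 0 := fun e => h (card_eq_one.mp (by rw [hj, e, pow_zero]))
  obtain ⟨z, hz⟩ := exists_prime_orderOf_dvd_card' (G := ↥(M ⊓ center S)) p (hj ▸ dvd_pow_self p hj0)
  exact ⟨z, (mem_inf.mp z.2).1, (mem_inf.mp z.2).2, by rw [orderOf_coe, hz]⟩

theorem card_mul_map_mk {H : Type u} [Group H] [Finite H] (Z : Subgroup H) [Z.Normal] {K : Subgroup H} (hK : Z ≤ K) :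
    Nat.card ↥(K.map (QuotientGroup.mk' Z)) * Nat.card Z = Nat.card K := by
  set f := QuotientGroup.mk' Z
  have hsurj := QuotientGroup.mk'_surjective Z
  have h1 : (K.map f).comap f = K := comap_map_eq_self (by rw [QuotientGroup.ker_mk']; exact hK)
  have h2 : (K.map f).index = K.index := by rw [← index_comap_of_surjective _ hsurj, h1]
  have h3 := (K.map f).card_mul_index
  have h4 := K.card_mul_index
  have h5 := card_eq_card_quotient_mul_card_subgroup Z
  rw [← h3, ← h4, h2] at h5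
  refine Nat.eq_of_mul_eq_mul_right (Nat.pos_of_ne_zero (index_ne_zero_of_finite (H := K))) ?_
  rw [h5]; ring

/-- The centraliser of a uniform element meets a normal subgroup avoiding it in `p`-part at most `p`. -/
theorem not_sq_dvd : ∀ (m : ℕ) {G : Type u} [Group G] [Finite G] (P : Sylow p G) (N : Subgroup G) [N.Normal]
    (x : G), x ∈ (P : Subgroup G) → Nat.card ↥((P : Subgroup G) ⊓ centralizer {x}) ≤ p ^ 2 → x ∉ N →
    Nat.card ↥(N ⊓ (P : Subgroup G)) = p ^ m → ¬ p ^ 2 ∣ Nat.card ↥(N ⊓ centralizer {x}) := by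
  intro m
  induction m using Nat.strong_induction_on with
  | _ m ih =>
  intro G _ _ P N _ x hxP hx hxN hm h2
  rcases Nat.lt_or_ge m 2 with hm2 | hm2
  · exact not_dvd_of_trace P N hm (K := N ⊓ centralizer {x}) inf_le_left
      ((pow_dvd_pow p (show m + 1 ≤ 2 by omega)).trans h2)
  have hpp : p.Prime := hp.out
  set M : Subgroup G := N ⊓ (P : Subgroup G) with hM
  have : (M.subgroupOf (P : Subgroup G)).Normal := by
    rw [hM, inf_subgroupOf_right]; infer_instance
  have hMne : M.subgroupOf (P : Subgroup G) ≠ ⊥ := by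
    intro e
    have h1 : Nat.card (M.subgroupOf (P : Subgroup G)) = p ^ m :=
      (Nat.card_congr (subgroupOfEquivOfLe (inf_le_right : M ≤ _)).toEquiv).trans hm
    rw [e, card_bot] at h1
    exact absurd h1.symm (Nat.one_lt_pow (n := m) (by omega) hpp.one_lt).ne'
  obtain ⟨z', hz'M, hz'c, hz'o⟩ := exists_central_orderOf P.2 (M.subgroupOf (P : Subgroup G)) hMne
  set z : G := (z' : G) with hzdef
  have hzo : orderOf z = p := by rw [hzdef, orderOf_coe, hz'o]
  have hzN : z ∈ N := (mem_inf.mp (mem_subgroupOf.mp hz'M)).1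
  have hzP : ∀ g ∈ (P : Subgroup G), g * z = z * g := fun g hg =>
    congrArg Subtype.val (mem_center_iff.mp hz'c ⟨g, hg⟩)
  have hCM : ∀ g ∈ (P : Subgroup G), g ∈ N → g * x = x * g → g ∈ zpowers z := by
    intro g hgP hgN hgx
    set C := (P : Subgroup G) ⊓ centralizer {x}
    have hle : N ⊓ C < C := lt_of_le_of_ne inf_le_right fun e =>
      hxN (mem_inf.mp (e.ge (mem_inf.mpr ⟨hxP, mem_centralizer_singleton_iff.mpr rfl⟩))).1
    obtain ⟨j, hj⟩ := IsPGroup.iff_card.mp (P.2.to_le (inf_le_right.trans inf_le_left : N ⊓ C ≤ _))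
    have hlt : Nat.card ↥(N ⊓ C) < p ^ 2 := lt_of_lt_of_le
      (lt_of_le_of_ne (card_le_of_le hle.le) fun e => hle.ne (eq_of_le_of_card_ge hle.le e.ge)) hx
    rw [hj, Nat.pow_lt_pow_iff_right hpp.one_lt] at hlt
    have hzle : zpowers z ≤ N ⊓ C := zpowers_le.mpr (mem_inf.mpr ⟨hzN, mem_inf.mpr
      ⟨z'.2, mem_centralizer_singleton_iff.mpr (hzP x hxP).symm⟩⟩)
    refine (eq_of_le_of_card_ge hzle ?_).ge (mem_inf.mpr ⟨hgN, mem_inf.mpr ⟨hgP, mem_centralizer_singleton_iff.mpr hgx⟩⟩)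
    rw [Nat.card_zpowers, hzo, hj]
    exact (Nat.pow_le_pow_right hpp.pos (show j ≤ 1 by omega)).trans_eq (pow_one p)
  -- an element outside `⟨z⟩` centralising `x` and `z`
  obtain ⟨w, hwN, hwx, hwz, hwnot, kw, hwp⟩ : ∃ w : G, w ∈ N ∧ w * x = x * w ∧ w * z = z * w ∧
      w ∉ zpowers z ∧ ∃ k : ℕ, w ^ p ^ k = 1 := by
    set K := N ⊓ centralizer {x}
    have hzK : z ∈ K := mem_inf.mpr ⟨hzN, mem_centralizer_singleton_iff.mpr (hzP x hxP).symm⟩
    have hzp : IsPGroup p ↥(zpowers (⟨z, hzK⟩ : K)) :=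
      IsPGroup.of_card (n := 1) (by rw [Nat.card_zpowers, orderOf_mk, hzo, pow_one])
    obtain ⟨S, hS⟩ := hzp.exists_le_sylow
    obtain ⟨jS, hjS⟩ := IsPGroup.iff_card.mp S.2
    have hS2 : p ^ 2 ≤ Nat.card (S : Subgroup K) := Nat.le_of_dvd Nat.card_pos (Sylow.pow_dvd_card_of_pow_dvd_card S h2)
    have hzS : (⟨z, hzK⟩ : K) ∈ (S : Subgroup K) := hS (mem_zpowers _)
    suffices h : ∃ w : (S : Subgroup K), w * ⟨_, hzS⟩ = ⟨_, hzS⟩ * w ∧ w ∉ zpowers (⟨_, hzS⟩ : (S : Subgroup K)) by
      obtain ⟨w, hw1, hw2⟩ := h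
      refine ⟨((w : K) : G), (mem_inf.mp (w : K).2).1, mem_centralizer_singleton_iff.mp (mem_inf.mp (w : K).2).2,
        congrArg (fun t : (S : Subgroup K) => ((t : K) : G)) hw1, fun hw => hw2 ?_, jS, ?_⟩
      · obtain ⟨i, hi⟩ := mem_zpowers_iff.mp hw
        exact mem_zpowers_iff.mpr ⟨i, Subtype.ext (Subtype.ext (by simpa using hi))⟩
      · have := congrArg (fun t : (S : Subgroup K) => ((t : K) : G)) (pow_card_eq_one' (x := w))
        rw [hjS] at this
        simpa using this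
    set zS : (S : Subgroup K) := ⟨_, hzS⟩
    have hzS' : Nat.card (zpowers zS) = p := by
      rw [Nat.card_zpowers, ← orderOf_coe, ← orderOf_coe]
      exact hzo
    by_cases hc : zS ∈ center (S : Subgroup K)
    · have hne : zpowers zS ≠ ⊤ := fun e => by
        rw [e, card_top] at hzS'
        have : p < p ^ 2 := by nlinarith [hpp.one_lt]
        omega
      obtain ⟨w, -, hw⟩ := SetLike.exists_of_lt (lt_top_iff_ne_top.mpr hne)
      exact ⟨w, mem_center_iff.mp hc w, hw⟩
    · have hnt : center (S : Subgroup K) ≠ ⊥ := by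
        haveI : Nontrivial (S : Subgroup K) := ⟨⟨zS, 1, fun e => hc (e ▸ one_mem _)⟩⟩
        exact nontrivial_iff_ne_bot _ |>.mp S.2.center_nontrivial
      obtain ⟨w, hw, hw1⟩ := ((center (S : Subgroup K)).bot_or_exists_ne_one).resolve_left hnt
      refine ⟨w, (mem_center_iff.mp hw zS).symm, fun hwz => hc ?_⟩
      have e : zpowers w = zpowers zS := by
        refine eq_of_le_of_card_ge (zpowers_le.mpr hwz) ?_
        rcases (Nat.dvd_prime hpp).mp (hzS' ▸ card_dvd_of_le (zpowers_le.mpr hwz)) with h | h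
        · exact absurd (orderOf_eq_one_iff.mp (Nat.card_zpowers w ▸ h)) hw1
        · rw [hzS', h]
      exact zpowers_le.mpr hw (e.ge (mem_zpowers zS))
  -- pass to the centraliser of `z` modulo `⟨z⟩`
  set H := centralizer ({z} : Set G)
  have hPH : (P : Subgroup G) ≤ H := fun g hg => mem_centralizer_singleton_iff.mpr (hzP g hg)
  have hzH : z ∈ H := mem_centralizer_singleton_iff.mpr rfl
  set zH : H := ⟨z, hzH⟩
  set Zc : Subgroup H := zpowers zH
  have hZcent : ∀ g : H, g * zH = zH * g := fun g => Subtype.ext (mem_centralizer_singleton_iff.mp g.2)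
  haveI : Zc.Normal := ⟨fun a ha g => by
    obtain ⟨i, rfl⟩ := mem_zpowers_iff.mp ha
    rw [((Commute.zpow_right (hZcent g) i)).eq, mul_inv_cancel_right]
    exact zpow_mem (mem_zpowers zH) i⟩
  have hZcard : Nat.card Zc = p := by rw [Nat.card_zpowers, orderOf_mk, hzo]
  set q := QuotientGroup.mk' Zc
  have hqs : Function.Surjective q := QuotientGroup.mk'_surjective Zc
  set xH : H := ⟨x, hPH hxP⟩
  set PH := P.subtype hPH
  set PQ := PH.mapSurjective hqs
  set NH := N.subgroupOf H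
  haveI : (NH.map q).Normal := (inferInstance : NH.Normal).map q hqs
  have hzN' : Zc ≤ NH := zpowers_le.mpr hzN
  have hzPH : Zc ≤ (PH : Subgroup H) := zpowers_le.mpr z'.2
  have hqker : ∀ {K : Subgroup H}, Zc ≤ K → ∀ g : H, q g ∈ K.map q → g ∈ K := by
    intro K hK g hg
    obtain ⟨a, ha, e⟩ := hg
    have := mul_mem ha (hK (QuotientGroup.eq.mp e))
    simpa using this
  have hx' : q xH ∈ (PQ : Subgroup (H ⧸ Zc)) := by
    rw [Sylow.coe_mapSurjective]; exact mem_map_of_mem _ hxP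
  have hxN' : q xH ∉ NH.map q := fun h => hxN (hqker hzN' _ h)
  have htrace : NH.map q ⊓ (PQ : Subgroup (H ⧸ Zc)) = (NH ⊓ (PH : Subgroup H)).map q := by
    rw [Sylow.coe_mapSurjective]
    refine le_antisymm ?_ (map_inf_le _ _ q)
    intro g hg
    obtain ⟨b, hb, rfl⟩ := (mem_inf.mp hg).2
    exact mem_map_of_mem _ (mem_inf.mpr ⟨hqker hzN' b (mem_inf.mp hg).1, hb⟩)
  have htr : Nat.card ↥(NH ⊓ (PH : Subgroup H)) = p ^ m := by
    rw [← hm, show (PH : Subgroup H) = (P : Subgroup G).subgroupOf H from rfl]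
    show Nat.card ↥(N.subgroupOf H ⊓ (P : Subgroup G).subgroupOf H) = _
    rw [show N.subgroupOf H ⊓ (P : Subgroup G).subgroupOf H = M.subgroupOf H from rfl]
    exact Nat.card_congr (subgroupOfEquivOfLe (inf_le_right.trans hPH : M ≤ H)).toEquiv
  have hm' : Nat.card ↥(NH.map q ⊓ (PQ : Subgroup (H ⧸ Zc))) = p ^ (m - 1) := by
    have h := card_mul_map_mk Zc (K := NH ⊓ (PH : Subgroup H)) (le_inf hzN' hzPH)
    rw [← htrace, hZcard, htr, show p ^ m = p ^ (m - 1) * p by rw [← pow_succ]; congr 1; omega] at h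
    exact Nat.eq_of_mul_eq_mul_right hpp.pos h
  have hx2 : Nat.card ↥((PQ : Subgroup (H ⧸ Zc)) ⊓ centralizer {q xH}) ≤ p ^ 2 := by
    set CQ := (PQ : Subgroup (H ⧸ Zc)) ⊓ centralizer {q xH}
    set T := CQ.comap q
    have hT : Zc ≤ T := fun a ha => by
      show q a ∈ CQ
      rw [show q a = 1 from (QuotientGroup.eq_one_iff a).mpr ha]
      exact one_mem _
    have hTcard := card_mul_map_mk Zc hT
    rw [map_comap_eq_self_of_surjective hqs, hZcard] at hTcard
    have hle : Nat.card T ≤ p * p ^ 2 := by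
      have h1 := CfsgLib.MaxClassRank.card_le_of_comm (x := xH) (H := T) (N := Zc) fun g hg => by
        have hg' := mem_centralizer_singleton_iff.mp (mem_inf.mp (show q g ∈ CQ from hg)).2
        rw [← QuotientGroup.eq_one_iff]
        show q ⁅g, xH⁆ = 1
        rw [map_commutatorElement, commutatorElement_eq_one_iff_mul_comm, hg']
      refine h1.trans (Nat.mul_le_mul hZcard.le ?_)
      rw [← Subgroup.card_map_of_injective H.subtype_injective]
      refine (card_le_of_le ?_).trans hx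
      · rintro - ⟨g, hg, rfl⟩
        refine mem_inf.mpr ⟨?_, mem_centralizer_singleton_iff.mpr
          (congrArg Subtype.val (mem_centralizer_singleton_iff.mp (mem_inf.mp hg).2))⟩
        have h := (mem_inf.mp (show q g ∈ CQ from (mem_inf.mp hg).1)).1
        rw [Sylow.coe_mapSurjective] at h
        exact hqker hzPH g h
    exact Nat.le_of_mul_le_mul_right (hTcard.le.trans (hle.trans_eq (mul_comm _ _))) hpp.pos
  have hIH := ih (m - 1) (by omega) PQ (NH.map q) (q xH) hx' hx2 hxN' hm'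
  -- the two subgroups of order `p`
  haveI : ((NH.map q).subgroupOf (PQ : Subgroup (H ⧸ Zc))).Normal := inferInstance
  obtain ⟨d', hd'N, hd'c, hd'o⟩ := exists_central_orderOf PQ.2 ((NH.map q).subgroupOf (PQ : Subgroup (H ⧸ Zc)))
    (fun e => by
      have h1 := congrArg (fun K : Subgroup (PQ : Subgroup (H ⧸ Zc)) => Nat.card K) e
      simp only [card_bot] at h1
      rw [← inf_subgroupOf_right, Nat.card_congr (subgroupOfEquivOfLe inf_le_right).toEquiv, hm'] at h1
      exact absurd h1 (Nat.one_lt_pow (n := m - 1) (by omega) hpp.one_lt).ne')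
  obtain ⟨d, hdP, hdq⟩ : ∃ d : H, d ∈ (PH : Subgroup H) ∧ q d = (d' : H ⧸ Zc) := by
    exact (Sylow.coe_mapSurjective hqs PH).le d'.2
  have hd'x : (d' : H ⧸ Zc) * q xH = q xH * d' := (congrArg Subtype.val (mem_center_iff.mp hd'c ⟨q xH, hx'⟩)).symm
  have hwH : w ∈ H := mem_centralizer_singleton_iff.mpr hwz
  set wH : H := ⟨w, hwH⟩
  have hwne : q wH ≠ 1 := fun e => hwnot (by
    obtain ⟨i, hi⟩ := mem_zpowers_iff.mp ((QuotientGroup.eq_one_iff wH).mp e)
    exact mem_zpowers_iff.mpr ⟨i, by simpa [zH, wH] using congrArg Subtype.val hi⟩)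
  set K' := NH.map q ⊓ centralizer {q xH}
  have hwK : zpowers (q wH) ≤ K' := zpowers_le.mpr (mem_inf.mpr ⟨mem_map_of_mem _ hwN,
    mem_centralizer_singleton_iff.mpr (by rw [← map_mul, ← map_mul]; exact congrArg q (Subtype.ext hwx))⟩)
  have hwcard : Nat.card (zpowers (q wH)) = p ^ 1 := by
    obtain ⟨j, -, hj⟩ := (Nat.dvd_prime_pow hpp).mp (orderOf_dvd_of_pow_eq_one
      (x := q wH) (n := p ^ kw) (by rw [← map_pow, show wH ^ p ^ kw = 1 from Subtype.ext hwp, map_one]))
    rw [Nat.card_zpowers, hj]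
    congr 1
    have hj0 : j ≠ 0 := fun e => hwne (orderOf_eq_one_iff.mp (by rw [hj, e, pow_zero]))
    by_contra hj1
    refine hIH ((pow_dvd_pow p (show 2 ≤ j by omega)).trans ?_)
    rw [← hj, ← Nat.card_zpowers]
    exact card_dvd_of_le hwK
  obtain ⟨c', hc'K, hc'⟩ := exists_conj_le hwK (D := zpowers (d' : H ⧸ Zc))
    (zpowers_le.mpr (mem_inf.mpr ⟨hd'N, mem_centralizer_singleton_iff.mpr hd'x⟩)) hwcard
    (IsPGroup.of_card (n := 1) (by rw [Nat.card_zpowers, orderOf_coe, hd'o, pow_one])) hIH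
  obtain ⟨c, rfl⟩ := hqs c'
  obtain ⟨i, hi⟩ := mem_zpowers_iff.mp (hc' (mem_map_conj _ (q c) (mem_zpowers _)))
  rw [← hdq, ← map_zpow, ← map_inv, ← map_mul, ← map_mul] at hi
  obtain ⟨j, hj⟩ := mem_zpowers_iff.mp (QuotientGroup.eq.mp hi)
  have hcx : q (c * xH * c⁻¹) = q xH := by
    rw [map_mul, map_mul, map_inv, mem_centralizer_singleton_iff.mp (mem_inf.mp hc'K).2, mul_inv_cancel_right]
  obtain ⟨l, hl⟩ := mem_zpowers_iff.mp (QuotientGroup.eq.mp hcx)
  have e1 : c * d * c⁻¹ = wH ^ i * zH ^ j := by rw [hj]; group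
  have e2 : xH = c * xH * c⁻¹ * zH ^ l := by rw [hl]; group
  have hwxH : Commute wH xH := Subtype.ext hwx
  have hzl : ∀ (g : H) (k : ℤ), Commute g (zH ^ k) := fun g k => Commute.zpow_right (hZcent g) k
  have hcomm : Commute (c * d * c⁻¹) (c * xH * c⁻¹) := by
    have h1 : Commute (c * d * c⁻¹) xH := by
      rw [e1]; exact (hwxH.zpow_left i).mul_left ((hzl xH j).symm)
    have h2 : c * xH * c⁻¹ = xH * (zH ^ l)⁻¹ := eq_mul_inv_of_mul_eq e2.symm
    rw [h2]; exact h1.mul_right ((hzl _ l).inv_right)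
  have hdx : d * xH = xH * d := by
    have := hcomm.eq
    simp only [mul_assoc, inv_mul_cancel_left, mul_right_inj] at this
    simpa only [← mul_assoc, mul_left_inj] using this
  have hdz := hCM (d : G) hdP (hqker hzN' d (hdq ▸ hd'N)) (congrArg Subtype.val hdx)
  have h1 : (d' : H ⧸ Zc) = 1 := by
    rw [← hdq]
    refine (QuotientGroup.eq_one_iff d).mpr ?_
    obtain ⟨k, hk⟩ := mem_zpowers_iff.mp hdz
    exact mem_zpowers_iff.mpr ⟨k, Subtype.ext (by simpa [zH] using hk)⟩
  have : orderOf d' = 1 := by rw [← orderOf_coe, h1, orderOf_one]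
  rw [hd'o] at this
  exact hpp.one_lt.ne' this

/-- A normal subgroup meeting a Sylow subgroup in order `p` inside its Frattini subgroup lies in it. -/
theorem le_sylow_of_trace {G : Type u} [Group G] [Finite G] (P : Sylow p G) (hcore : Cfsg.pPrimeCore p G = ⊥)
    (N : Subgroup G) [N.Normal] (hM : Nat.card ↥(N ⊓ (P : Subgroup G)) = p)
    (hΦ : (N ⊓ (P : Subgroup G)).subgroupOf (P : Subgroup G) ≤ frattini ↥(P : Subgroup G)) :
    N ≤ (P : Subgroup G) := by
  have hpp : p.Prime := hp.out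
  set Z : Subgroup G := N ⊓ (P : Subgroup G) with hZ
  have hM1 : Nat.card ↥(N ⊓ (P : Subgroup G)) = p ^ 1 := by rw [hM, pow_one]
  have hN2 : ∀ K : Subgroup G, K ≤ N → ¬ p ^ 2 ∣ Nat.card K := fun K hK => not_dvd_of_trace P N hM1 hK
  have hZp : IsPGroup p Z := IsPGroup.of_card hM1
  obtain ⟨nP, hnP⟩ := IsPGroup.iff_card.mp P.2
  have hnP1 : 1 ≤ nP := by
    have := card_le_of_le (inf_le_right : Z ≤ (P : Subgroup G))
    rw [hM, hnP] at this
    by_contra h
    rw [show nP = 0 by omega, pow_zero] at this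
    exact absurd hpp.one_lt (by omega)
  -- the normalizer of `Z` in `N` centralises `Z`
  have hNC : N ⊓ normalizer (Z : Set G) ≤ centralizer (Z : Set G) := by
    by_contra hnot
    set H := normalizer (Z : Set G) with hH
    set K := N.subgroupOf H with hK
    set C := (centralizer (Z : Set G)).subgroupOf H
    obtain ⟨k, hk, hkC⟩ := SetLike.not_le_iff_exists.mp hnot
    have hidx : (C.subgroupOf K).index ≠ 1 := fun e => by
      refine hkC ?_
      have h1 : (⟨⟨k, (mem_inf.mp hk).2⟩, (mem_inf.mp hk).1⟩ : K) ∈ C.subgroupOf K := by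
        rw [index_eq_one.mp e]; exact mem_top _
      exact h1
    obtain ⟨r, hr, hrd⟩ := Nat.exists_prime_and_dvd hidx
    haveI := Fact.mk hr
    obtain ⟨Q⟩ : Nonempty (Sylow r K) := inferInstance
    have hQC : ¬ (Q : Subgroup K) ≤ C.subgroupOf K := fun h =>
      Q.not_dvd_index (hrd.trans (index_dvd_of_le h))
    obtain ⟨qk, hqk, hqkC⟩ := SetLike.not_le_iff_exists.mp hQC
    have hZH : Z ≤ H := le_normalizer
    have hPH : (P : Subgroup G) ≤ H := fun g hg => by
      rw [hH, mem_normalizer_iff]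
      intro t
      constructor
      · exact fun ht => mem_inf.mpr ⟨(inferInstance : N.Normal).conj_mem t (mem_inf.mp ht).1 g,
          mul_mem (mul_mem hg (mem_inf.mp ht).2) (inv_mem hg)⟩
      · intro ht
        have h1 := (inferInstance : N.Normal).conj_mem _ (mem_inf.mp ht).1 g⁻¹
        have h2 := mul_mem (mul_mem (inv_mem hg) (mem_inf.mp ht).2) hg
        exact mem_inf.mpr ⟨by simpa [mul_assoc] using h1, by simpa [mul_assoc] using h2⟩
    set Q' : Subgroup G := ((Q : Subgroup K).map K.subtype).map H.subtype with hQ'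
    have hQ'N : Q' ≤ N := by rintro - ⟨-, ⟨a, -, rfl⟩, rfl⟩; exact a.2
    have hQ'H : Q' ≤ H := map_subtype_le _
    have hQ'r : IsPGroup r Q' := (Q.2.map _).map _
    set L : Subgroup H := normalizer (((Q : Subgroup K).map K.subtype : Subgroup H) : Set H)
    have hLtop : L ⊔ K = ⊤ := Sylow.normalizer_sup_eq_top Q
    obtain ⟨z, hz⟩ := exists_prime_orderOf_dvd_card' (G := Z) p (dvd_of_eq hM.symm)
    have hzgen : zpowers (z : G) = Z := eq_of_le_of_card_ge (zpowers_le.mpr z.2)
      (by rw [Nat.card_zpowers, orderOf_coe, hz, hM])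
    -- `p`-subgroups of `N` normalising `Z` lie in `Z`
    have hpsub : ∀ S : Subgroup G, S ≤ N ⊓ H → IsPGroup p S → S ≤ Z := by
      intro S hS hSp
      have hj : IsPGroup p ↥(S ⊔ Z) := hSp.to_sup_of_normal_right' hZp (hS.trans inf_le_right)
      obtain ⟨j, hj'⟩ := IsPGroup.iff_card.mp hj
      have hle : Z ≤ S ⊔ Z := le_sup_right
      have hjb : j ≤ 1 := by
        by_contra hc
        exact hN2 (S ⊔ Z) (sup_le (hS.trans inf_le_left) inf_le_left) (hj' ▸ pow_dvd_pow p (show 2 ≤ j by omega))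
      have := eq_of_le_of_card_ge hle (by
        rw [hj', hM]; exact (Nat.pow_le_pow_right hpp.pos hjb).trans_eq (pow_one p))
      exact le_sup_left.trans this.ge
    -- `Z` does not normalise `Q'`
    have hLK : ¬ p ∣ Nat.card ↥(L ⊓ K) := by
      intro hd
      obtain ⟨a, ha⟩ := exists_prime_orderOf_dvd_card' (G := ↥(L ⊓ K)) p hd
      have haZ : zpowers ((a : H) : G) ≤ Z := hpsub _ (zpowers_le.mpr (mem_inf.mpr ⟨(mem_inf.mp a.2).2, (a : H).2⟩))
        (IsPGroup.of_card (n := 1) (by rw [Nat.card_zpowers, orderOf_coe, orderOf_coe, ha, pow_one]))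
      have haeq : zpowers ((a : H) : G) = Z := eq_of_le_of_card_ge haZ
        (by rw [Nat.card_zpowers, orderOf_coe, orderOf_coe, ha, hM])
      refine hqkC (mem_subgroupOf.mpr (mem_subgroupOf.mpr (mem_centralizer_iff.mpr fun t ht => ?_)))
      set g : G := ((qk : H) : G)
      have hg : g ∈ Q' := mem_map_of_mem H.subtype (mem_map_of_mem K.subtype hqk)
      obtain ⟨i, rfl⟩ := mem_zpowers_iff.mp (haeq.ge ht)
      set t : G := ((a : H) : G) ^ i
      have htL : (a : H) ^ i ∈ L := zpow_mem (mem_inf.mp a.2).1 i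
      have h1 : t * g * t⁻¹ ∈ Q' := by
        have := (mem_normalizer_iff.mp htL (qk : H)).mp (mem_map_of_mem _ hqk)
        refine ⟨_, this, ?_⟩
        simp [t, g]
      have h2 : ⁅t, g⁆ ∈ Q' := by rw [commutatorElement_def]; exact mul_mem h1 (inv_mem hg)
      have h3 : ⁅t, g⁆ ∈ Z := by
        rw [commutatorElement_def, mul_assoc, mul_assoc]
        refine mul_mem ht ?_
        rw [← mul_assoc]
        exact (mem_normalizer_iff.mp (hQ'H hg) t⁻¹).mp (inv_mem ht)
      rw [← commutatorElement_eq_one_iff_mul_comm]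
      by_contra hne
      obtain ⟨jr, hjr⟩ := IsPGroup.iff_card.mp hQ'r
      have d1 : orderOf ⁅t, g⁆ ∣ r ^ jr := hjr ▸ Subgroup.orderOf_dvd_natCard Q' h2
      have d2 : orderOf ⁅t, g⁆ ∣ p := hM ▸ Subgroup.orderOf_dvd_natCard Z h3
      have hrp : r ≠ p := by
        rintro rfl
        have hQZ := hpsub Q' (le_inf hQ'N hQ'H) hQ'r
        exact hne (commutatorElement_eq_one_iff_mul_comm.mpr (by
          haveI := isCyclic_of_prime_card (α := Z) hM
          exact congrArg Subtype.val (IsCyclic.commGroup.mul_comm (⟨t, ht⟩ : Z) ⟨g, hQZ hg⟩)))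
      rcases (Nat.dvd_prime hpp).mp d2 with e | e
      · exact hne (orderOf_eq_one_iff.mp e)
      · exact hrp ((Nat.prime_dvd_prime_iff_eq hpp hr).mp (hpp.dvd_of_dvd_pow (e ▸ d1))).symm
    have hdvd : p ^ (nP - 1) ∣ Nat.card L := by
      have h1 : Nat.card ↥(L ⊔ K) ∣ Nat.card L * Nat.card K := CfsgLib.card_sup_dvd_mul L K
      rw [hLtop, card_top] at h1
      have h2 : p ^ nP ∣ Nat.card H := hnP ▸ card_dvd_of_le hPH
      have h3 : Nat.card K ∣ Nat.card ↥(N ⊓ H) := by
        rw [hK, ← inf_subgroupOf_right, Nat.card_congr (subgroupOfEquivOfLe inf_le_right).toEquiv]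
      have h4 := h2.trans h1
      have hK2 : ¬ p ^ 2 ∣ Nat.card K := fun h => hN2 _ inf_le_left (h.trans h3)
      rw [show nP = nP - 1 + 1 by omega] at h4
      by_cases hpK : p ∣ Nat.card K
      · obtain ⟨c, hc⟩ := hpK
        have hpc : ¬ p ∣ c := fun ⟨e, he⟩ => hK2 ⟨e, by rw [hc, he]; ring⟩
        rw [hc, pow_succ, ← mul_assoc, mul_comm (Nat.card L) p, mul_assoc, mul_comm (p ^ (nP - 1)) p] at h4
        exact (Nat.Coprime.pow_left _ (hpp.coprime_iff_not_dvd.mpr hpc)).dvd_of_dvd_mul_right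
          (Nat.dvd_of_mul_dvd_mul_left hpp.pos h4)
      · exact (pow_dvd_pow p (Nat.le_succ _)).trans
          ((Nat.Coprime.pow_left _ (hpp.coprime_iff_not_dvd.mpr hpK)).dvd_of_dvd_mul_right h4)
    obtain ⟨R, hR⟩ := Sylow.exists_subgroup_card_pow_prime p hdvd
    set R' : Subgroup G := (R.map L.subtype).map H.subtype
    have hR'card : Nat.card R' = p ^ (nP - 1) := by
      rw [Subgroup.card_map_of_injective H.subtype_injective, Subgroup.card_map_of_injective L.subtype_injective, hR]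
    have hdisj : R' ⊓ Z = ⊥ := by
      by_contra hne
      obtain ⟨t, ht, ht1⟩ := ((R' ⊓ Z).bot_or_exists_ne_one).resolve_left hne
      obtain ⟨⟨-, ⟨b, -, rfl⟩, hb⟩, htZ⟩ := mem_inf.mp ht
      refine hLK ?_
      have ho : orderOf t = p := ((Nat.dvd_prime hpp).mp (hM ▸ Subgroup.orderOf_dvd_natCard Z htZ)).resolve_left
        fun e => ht1 (orderOf_eq_one_iff.mp e)
      rw [← ho, ← hb, show H.subtype (L.subtype b) = ((b : H) : G) from rfl, orderOf_coe]
      exact Subgroup.orderOf_dvd_natCard _ (mem_inf.mpr ⟨b.2, mem_subgroupOf.mpr (by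
        rw [show ((b : H) : G) = t from hb]; exact (mem_inf.mp htZ).1)⟩)
    have hRp : IsPGroup p (R'.subgroupOf H) :=
      (IsPGroup.of_card hR'card).of_equiv (subgroupOfEquivOfLe (map_subtype_le _)).symm
    obtain ⟨R₁, hR₁⟩ := hRp.exists_le_sylow
    obtain ⟨h, hh⟩ := MulAction.exists_smul_eq H R₁ (P.subtype hPH)
    set R₂ : Subgroup G := R'.map (MulAut.conj (h : G)).toMonoidHom
    have hR₂P : R₂ ≤ (P : Subgroup G) := by
      rintro - ⟨a, ha, rfl⟩
      have := (SetLike.ext_iff.mp hh (MulAut.conj h ⟨a, map_subtype_le _ ha⟩)).mp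
        ⟨_, hR₁ (mem_subgroupOf.mpr ha), rfl⟩
      exact this
    have hR₂Z : R₂ ⊓ Z = ⊥ := by
      rw [eq_bot_iff]
      rintro t ht
      obtain ⟨⟨a, ha, rfl⟩, htZ⟩ := mem_inf.mp ht
      have haZ : a ∈ Z := (mem_normalizer_iff.mp h.2 a).mpr (by simpa using htZ)
      have : a = 1 := by simpa [hdisj] using (mem_inf.mpr ⟨ha, haZ⟩ : a ∈ R' ⊓ Z)
      rw [this, map_one]; exact one_mem _
    set R₃ := R₂.subgroupOf (P : Subgroup G)
    have hR₃i : R₃.index = p := by
      have h1 := R₃.card_mul_index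
      rw [Nat.card_congr (subgroupOfEquivOfLe hR₂P).toEquiv, card_map_conj, hR'card, hnP,
        show p ^ nP = p ^ (nP - 1) * p by rw [← pow_succ]; congr 1; omega] at h1
      exact Nat.eq_of_mul_eq_mul_left (pow_pos hpp.pos _) h1
    have hco : IsCoatom R₃ := by
      refine ⟨fun e => by rw [e, index_top] at hR₃i; exact hpp.one_lt.ne hR₃i, fun B hB => ?_⟩
      have h1 := index_strictAnti hB
      have h2 : B.index ∣ p := (index_dvd_of_le hB.le).trans (dvd_of_eq hR₃i)
      rcases (Nat.dvd_prime hpp).mp h2 with e | e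
      · exact index_eq_one.mp e
      · omega
    have hz3 : (z : G) ∈ R₂ := by
      have := (hΦ.trans (frattini_le_coatom hco)) (show (⟨z, (mem_inf.mp z.2).2⟩ : (P : Subgroup G)) ∈ _ from mem_subgroupOf.mpr z.2)
      exact this
    have : (z : G) = 1 := by simpa [hR₂Z] using (mem_inf.mpr ⟨hz3, z.2⟩ : (z : G) ∈ R₂ ⊓ Z)
    rw [← orderOf_eq_one_iff, orderOf_coe, hz] at this
    exact hpp.one_lt.ne' this
  -- Burnside transfer
  set Z₀ := Z.subgroupOf N
  have hZ₀ : Nat.card Z₀ = p := by rw [Nat.card_congr (subgroupOfEquivOfLe (inf_le_left : Z ≤ N)).toEquiv, hM]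
  obtain ⟨S, hS⟩ := (IsPGroup.of_card (n := 1) (by rw [hZ₀, pow_one]) : IsPGroup p Z₀).exists_le_sylow
  have hSZ : (S : Subgroup N) = Z₀ := by
    refine (eq_of_le_of_card_ge hS ?_).symm
    obtain ⟨j, hj⟩ := IsPGroup.iff_card.mp S.2
    rw [hj, hZ₀]
    refine (Nat.pow_le_pow_right hpp.pos (?_ : j ≤ 1)).trans_eq (pow_one p)
    by_contra hc
    exact hN2 N le_rfl ((pow_dvd_pow p (show 2 ≤ j by omega)).trans (hj ▸ card_subgroup_dvd_card (S : Subgroup N)))
  have hNS : normalizer ((S : Subgroup N) : Set N) ≤ centralizer ((S : Subgroup N) : Set N) := by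
    rw [hSZ]
    intro g hg
    have h1 : (g : G) ∈ centralizer (Z : Set G) := hNC (mem_inf.mpr ⟨g.2, mem_normalizer_iff.mpr fun t => by
      constructor
      · intro ht
        exact mem_subgroupOf.mp ((mem_normalizer_iff.mp hg ⟨t, (mem_inf.mp ht).1⟩).mp ht)
      · intro ht
        have htN : t ∈ N := by
          have := mul_mem (mul_mem (inv_mem g.2) (mem_inf.mp ht).1) g.2
          simpa [mul_assoc] using this
        exact mem_subgroupOf.mp ((mem_normalizer_iff.mp hg ⟨t, htN⟩).mpr ht)⟩)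
    exact mem_centralizer_iff.mpr fun t ht => Subtype.ext (mem_centralizer_iff.mp h1 t (mem_subgroupOf.mp ht))
  set D := (MonoidHom.transferSylow S hNS).ker
  have hD : IsComplement' D (S : Subgroup N) := MonoidHom.ker_transferSylow_isComplement' S hNS
  have hDc := hD.card_mul
  rw [hSZ, hZ₀] at hDc
  have hDp : ¬ p ∣ Nat.card D := fun h => hN2 N le_rfl (by rw [sq, ← hDc]; exact Nat.mul_dvd_mul_right h p)
  have hmemD : ∀ a : N, (orderOf a).Coprime p → a ∈ D := by
    intro a ha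
    refine MonoidHom.mem_ker.mpr (orderOf_eq_one_iff.mp (Nat.eq_one_of_dvd_coprimes ha (orderOf_map_dvd _ a) ?_))
    have := orderOf_dvd_natCard (MonoidHom.transferSylow S hNS a)
    rwa [show Nat.card ↥(S : Subgroup N) = p by rw [hSZ, hZ₀]] at this
  set DG := D.map N.subtype
  have hDcop : (Nat.card DG).Coprime p := by
    rw [Subgroup.card_map_of_injective N.subtype_injective]
    exact (hpp.coprime_iff_not_dvd.mpr hDp).symm
  haveI : DG.Normal := ⟨by
    rintro - ⟨a, ha, rfl⟩ g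
    refine ⟨⟨g * (a : G) * g⁻¹, (inferInstance : N.Normal).conj_mem _ a.2 g⟩, hmemD _ ?_, rfl⟩
    rw [← orderOf_coe]
    show (orderOf (MulAut.conj g (a : G))).Coprime p
    rw [MulEquiv.orderOf_eq, orderOf_coe, show orderOf a = orderOf (⟨a, ha⟩ : D) from (Subgroup.orderOf_mk a ha).symm]
    exact (hpp.coprime_iff_not_dvd.mpr fun h => hDp (h.trans (orderOf_dvd_natCard _))).symm⟩
  have hD1 : D = ⊥ := by
    have : DG ≤ Cfsg.pPrimeCore p G := le_sSup ⟨inferInstance, hDcop⟩
    rw [hcore, le_bot_iff] at this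
    exact (map_eq_bot_iff_of_injective _ N.subtype_injective).mp this
  rw [hD1, card_bot, one_mul] at hDc
  intro g hg
  have : Z₀ = ⊤ := eq_top_of_card_eq _ (by rw [hZ₀, hDc])
  exact (mem_inf.mp (mem_subgroupOf.mp (this.ge (mem_top (⟨g, hg⟩ : N))))).2

end CfsgLib.MaxClassFusion
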