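import Cfsg.Agent.Lib.MaxClassFusion.Small
import Cfsg.Agent.Lib.MaxClassDegree.Main
import Cfsg.Prelude.Def_CaseTheorems

/-! S3865: a Sylow subgroup of maximal class in a group without proper normal subgroup of index prime
to `p` and with trivial `p'`-core has an element whose centraliser has `p`-part `p ^ 2`, unless the
group is quasisimple. -/

set_option autoImplicit false
set_option linter.unusedSectionVars false
set_option linter.style.haveILetI false

namespace CfsgLib.MaxClassFusion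

open Subgroup
open scoped commutatorElement
open CfsgLib.PolySeq (fil fil_antitone fil_commutator_mem)
open CfsgLib.MaxClassGood (twoStep mem_twoStep)

universe u

/-- The elements normalising `Z` and fixing the coset `t Z` under conjugation. -/
def cosetStab {G : Type u} [Group G] (Z : Subgroup G) (t : G) : Subgroup G where
  carrier := {g | g ∈ normalizer (Z : Set G) ∧ ∃ a ∈ Z, g * t * g⁻¹ = t * a}
  one_mem' := ⟨one_mem _, 1, one_mem _, by group⟩
  mul_mem' := fun {g h} hg hh => by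
    obtain ⟨hgn, a, ha, hga⟩ := hg
    obtain ⟨hhn, b, hb, hhb⟩ := hh
    refine ⟨mul_mem hgn hhn, a * (g * b * g⁻¹), mul_mem ha ((mem_normalizer_iff.mp hgn b).mp hb), ?_⟩
    calc g * h * t * (g * h)⁻¹ = g * (h * t * h⁻¹) * g⁻¹ := by group
      _ = g * t * g⁻¹ * (g * b * g⁻¹) := by rw [hhb]; group
      _ = t * (a * (g * b * g⁻¹)) := by rw [hga, mul_assoc]
  inv_mem' := fun {g} hg => by
    obtain ⟨hgn, a, ha, hga⟩ := hg
    refine ⟨inv_mem hgn, g⁻¹ * a⁻¹ * g, ?_, ?_⟩
    · have := (mem_normalizer_iff.mp (inv_mem hgn) a⁻¹).mp (inv_mem ha)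
      rwa [inv_inv] at this
    · have h : g⁻¹ * (g * t * g⁻¹) * g = g⁻¹ * (t * a) * g := by rw [hga]
      calc g⁻¹ * t * g⁻¹⁻¹ = g⁻¹ * (t * a) * g * (g⁻¹ * a⁻¹ * g) := by group
        _ = g⁻¹ * (g * t * g⁻¹) * g * (g⁻¹ * a⁻¹ * g) := by rw [h]
        _ = t * (g⁻¹ * a⁻¹ * g) := by group

theorem mem_cosetStab {G : Type u} [Group G] {Z : Subgroup G} {t g : G} :
    g ∈ cosetStab Z t ↔ g ∈ normalizer (Z : Set G) ∧ ∃ a ∈ Z, g * t * g⁻¹ = t * a := Iff.rfl

/-- A finite group is not the union of two proper subgroups. -/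
theorem exists_not_mem_two {S : Type u} [Group S] {A B : Subgroup S} (hA : A ≠ ⊤) (hB : B ≠ ⊤) :
    ∃ x : S, x ∉ A ∧ x ∉ B := by
  obtain ⟨a, -, ha⟩ := SetLike.exists_of_lt (lt_top_iff_ne_top.mpr hA)
  obtain ⟨b, -, hb⟩ := SetLike.exists_of_lt (lt_top_iff_ne_top.mpr hB)
  by_cases haB : a ∈ B
  · by_cases hbA : b ∈ A
    · refine ⟨a * b, fun h => ha ?_, fun h => hb ?_⟩
      · simpa using mul_mem h (inv_mem hbA)
      · simpa using mul_mem (inv_mem haB) h
    · exact ⟨b, hbA, hb⟩
  · exact ⟨a, ha, haB⟩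

section

variable {S : Type u} [Group S] [Finite S] {p : ℕ} [hp : Fact p.Prime] {n : ℕ}

/-- Three subgroups of index at least `p ≥ 3` do not cover a `p`-group. -/
theorem exists_not_mem_three (hp3 : 3 ≤ p) {A B C : Subgroup S} (hA : Nat.card A * p ≤ Nat.card S)
    (hB : Nat.card B * p ≤ Nat.card S) (hC : Nat.card C * p ≤ Nat.card S) :
    ∃ x : S, x ∉ A ∧ x ∉ B ∧ x ∉ C := by
  by_contra h
  push Not at h
  have hsub : (Set.univ : Set S) ⊆ (A : Set S) ∪ (((B : Set S) \ {1}) ∪ (C : Set S)) := by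
    intro x _
    by_cases hxA : x ∈ A
    · exact Or.inl hxA
    · by_cases hxB : x ∈ B
      · exact Or.inr (Or.inl ⟨hxB, fun e => hxA (by rw [show x = 1 from e]; exact one_mem _)⟩)
      · exact Or.inr (Or.inr (h x hxA hxB))
  have h1 := (Set.ncard_le_ncard hsub (Set.toFinite _)).trans
    ((Set.ncard_union_le _ _).trans (Nat.add_le_add_left (Set.ncard_union_le _ _) _))
  rw [Set.ncard_univ, Set.ncard_sdiff_singleton_of_mem (show (1 : S) ∈ (B : Set S) from one_mem B)] at h1
  simp only [← Nat.card_coe_set_eq, SetLike.coe_sort_coe] at h1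
  obtain ⟨b, hb⟩ : ∃ b, Nat.card B = b + 1 := ⟨Nat.card B - 1, by have := Nat.card_pos (α := B); omega⟩
  rw [hb, Nat.add_sub_cancel] at h1
  rw [hb] at hB
  have h3 := Nat.mul_le_mul_right p h1
  have h4 := Nat.mul_le_mul_left (Nat.card S) hp3
  rw [Nat.add_mul, Nat.add_mul] at h3
  rw [Nat.succ_mul] at hB
  omega

variable (hn : 3 ≤ n) (hG : Nat.card S = p ^ n) (hc : Group.nilpotencyClass S = n - 1)

include hn hG hc

/-- A normal subgroup of order at least `p ^ d` contains the term `n - d` of the series. -/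
theorem fil_le_of_normal (M : Subgroup S) [M.Normal] {d k : ℕ} (hd : p ^ d ≤ Nat.card M) (hk : 2 ≤ k)
    (hkd : n ≤ k + d) : fil S k ≤ M := by
  obtain ⟨r, hrn, hr⟩ := (Nat.dvd_prime_pow hp.out).mp (hG ▸ M.index_dvd_card)
  rcases Nat.lt_or_ge r 2 with h | h
  · refine (fil_antitone hk).trans ?_
    rw [show fil S 2 = commutator S from Subgroup.top_lowerCentralSeries_one, commutator_def, commutator_le]
    intro a _ b _
    rw [← QuotientGroup.eq_one_iff]
    show QuotientGroup.mk' M ⁅a, b⁆ = 1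
    rw [map_commutatorElement, commutatorElement_eq_one_iff_mul_comm]
    haveI : IsCyclic (S ⧸ M) := by
      rcases Nat.le_one_iff_eq_zero_or_eq_one.mp (show r ≤ 1 by omega) with h0 | h0
      · rw [h0, pow_zero] at hr
        have := (Nat.card_eq_one_iff_unique.mp (show Nat.card (S ⧸ M) = 1 from hr)).1
        infer_instance
      · exact isCyclic_of_prime_card (p := p) (show Nat.card (S ⧸ M) = p by rw [← pow_one p, ← h0]; exact hr)
    exact IsCyclic.commGroup.mul_comm _ _
  · have e := CfsgLib.MaximalClass.normal_eq_lcs hn hG hc M h hr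
    rw [e]
    refine fil_antitone (i := r) ?_
    have h1 := M.card_mul_index
    rw [hr, hG] at h1
    have h2 : p ^ (d + r) ≤ p ^ n := by rw [← h1, pow_add]; exact Nat.mul_le_mul_right _ hd
    rw [Nat.pow_le_pow_iff_right hp.out.one_lt] at h2
    omega

/-- If the last two-step centraliser differs from the first then `p` is odd. -/
theorem three_le_of_ne (h4 : 4 ≤ n) (hne : twoStep S (n - 2) ≠ twoStep S 2) : 3 ≤ p := by
  by_contra h
  have hp2 : p = 2 := le_antisymm (by omega) hp.out.two_le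
  have hall : ∀ k, 2 ≤ k → k + 2 ≤ n → twoStep S k = twoStep S 2 := by
    intro k
    induction k using Nat.strong_induction_on with
    | _ k ih =>
      intro hk hkn
      rcases eq_or_lt_of_le hk with rfl | hk'
      · rfl
      rw [(CfsgLib.MaxClassGood.periodic_and_good n hn hG hc).1 k (by omega) hkn]
      exact ih _ (by omega) (by omega) (by omega)
  exact hne (hall (n - 2) (by omega) (by omega))

/-- Outside the derived subgroup, the first and the last two-step centraliser, centralisers are small. -/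
theorem card_centralizer_eq {y : S} (hy : y ∉ fil S 2)
    (h4 : 4 ≤ n → y ∉ twoStep S 2 ∧ y ∉ twoStep S (n - 2)) : Nat.card (centralizer ({y} : Set S)) = p ^ 2 := by
  refine CfsgLib.MaxClassGood.good_of_outside hn hG hc hy fun k hk hkn => ?_
  rcases Nat.lt_or_ge n (k + 3) with h | h
  · rw [show k = n - 2 by omega]; exact (h4 (by omega)).2
  · rw [CfsgLib.MaxClassDegree.twoStep_eq hn hG hc hk h]; exact (h4 (by omega)).1

/-- An element outside a proper normal subgroup and the two exceptional maximal subgroups. -/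
theorem exists_uniform (M : Subgroup S) [M.Normal] (hM : p ^ 2 ≤ Nat.card M) (hMne : M ≠ ⊤) :
    ∃ x : S, x ∉ M ∧ Nat.card (centralizer ({x} : Set S)) = p ^ 2 := by
  rcases Nat.lt_or_ge n 4 with h4 | h4
  · obtain ⟨x, -, hx⟩ := SetLike.exists_of_lt (lt_top_iff_ne_top.mpr hMne)
    exact ⟨x, hx, card_centralizer_eq hn hG hc (fun h => hx (fil_le_of_normal hn hG hc M hM le_rfl (by omega) h))
      fun h => absurd h (by omega)⟩
  have hT := CfsgLib.MaxClassGood.twoStep_ne_top hn hG hc (k := 2) le_rfl (by omega)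
  have hfin : ∀ x : S, x ∉ M → x ∉ twoStep S 2 → x ∉ twoStep S (n - 2) →
      ∃ x : S, x ∉ M ∧ Nat.card (centralizer ({x} : Set S)) = p ^ 2 := fun x h1 h2 h3 =>
    ⟨x, h1, card_centralizer_eq hn hG hc
      (fun h => h2 (CfsgLib.MaxClassGood.fil_le_twoStep 2 h)) fun _ => ⟨h2, h3⟩⟩
  by_cases hW : twoStep S (n - 2) = twoStep S 2
  · obtain ⟨x, h1, h2⟩ := exists_not_mem_two hMne hT
    exact hfin x h1 h2 (hW ▸ h2)
  · have hmul : ∀ A : Subgroup S, A ≠ ⊤ → Nat.card A * p ≤ Nat.card S := by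
      intro A hA
      obtain ⟨r, -, hr⟩ := (Nat.dvd_prime_pow hp.out).mp (hG ▸ A.index_dvd_card)
      have h0 : r ≠ 0 := fun e => hA (index_eq_one.mp (by rw [hr, e, pow_zero]))
      rw [← A.card_mul_index, hr]
      exact Nat.mul_le_mul_left _ (Nat.le_self_pow h0 p)
    obtain ⟨x, h1, h2, h3⟩ := exists_not_mem_three (three_le_of_ne hn hG hc h4 hW) (hmul M hMne) (hmul _ hT)
      (hmul _ (CfsgLib.MaxClassGood.twoStep_ne_top hn hG hc (k := n - 2) (by omega) (by omega)))
    exact hfin x h1 h2 h3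

end

variable {G : Type u} [Group G] [Finite G] {p : ℕ} [hp : Fact p.Prime] (P : Sylow p G) {n : ℕ}

/-- A proper normal subgroup meeting `P` in order at least `p ^ 2` gives the element. -/
theorem exists_of_normal (hP : Nat.card P = p ^ n) (hn : 3 ≤ n)
    (hmax : Group.nilpotencyClass ↥(P : Subgroup G) = n - 1) (N : Subgroup G) [hN : N.Normal]
    (h2 : p ^ 2 ≤ Nat.card ↥(N ⊓ (P : Subgroup G))) (hPN : ¬ (P : Subgroup G) ≤ N) :
    ∃ x ∈ (P : Subgroup G), (Nat.card (centralizer ({x} : Set G))).factorization p = 2 := by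
  have hpp : p.Prime := hp.out
  set M : Subgroup G := N ⊓ (P : Subgroup G) with hMdef
  set MS := N.subgroupOf (P : Subgroup G)
  have hMS : Nat.card MS = Nat.card M := by
    rw [hMdef, ← Nat.card_congr (subgroupOfEquivOfLe (inf_le_right : N ⊓ (P : Subgroup G) ≤ _)).toEquiv,
      inf_subgroupOf_right]
  have hMS2 : p ^ 2 ≤ Nat.card MS := hMS ▸ h2
  have hMne : MS ≠ ⊤ := fun e => hPN (subgroupOf_eq_top.mp e)
  obtain ⟨xS, hxM, hxC⟩ := exists_uniform hn hP hmax MS hMS2 hMne
  set x : G := (xS : G) with hxdef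
  have hxP : x ∈ (P : Subgroup G) := xS.2
  have hxN : x ∉ N := fun h => hxM (mem_subgroupOf.mpr h)
  have hcard : ∀ t : (P : Subgroup G),
      Nat.card (centralizer ({t} : Set (P : Subgroup G))) = Nat.card ↥((P : Subgroup G) ⊓ centralizer {(t : G)}) := by
    intro t
    rw [← Subgroup.card_map_of_injective (P : Subgroup G).subtype_injective]
    refine congrArg (fun K : Subgroup G => Nat.card K) (le_antisymm ?_ ?_)
    · rintro - ⟨g, hg, rfl⟩
      exact mem_inf.mpr ⟨g.2, mem_centralizer_singleton_iff.mpr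
        (congrArg Subtype.val (mem_centralizer_singleton_iff.mp hg))⟩
    · intro g hg
      exact ⟨⟨g, (mem_inf.mp hg).1⟩, mem_centralizer_singleton_iff.mpr
        (Subtype.ext (mem_centralizer_singleton_iff.mp (mem_inf.mp hg).2)), rfl⟩
  have hxPC : Nat.card ↥((P : Subgroup G) ⊓ centralizer {x}) = p ^ 2 := (hcard xS).symm.trans hxC
  -- a conjugate with centraliser Sylow subgroup inside `P`
  set C := centralizer ({x} : Set G) with hCdef
  have hxC' : x ∈ C := mem_centralizer_singleton_iff.mpr rfl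
  have hxp : IsPGroup p ↥(zpowers (⟨x, hxC'⟩ : C)) := by
    intro a
    obtain ⟨k, hk⟩ := P.2 ⟨_, (zpowers_le.mpr hxP : zpowers x ≤ (P : Subgroup G))
      (show ((a : C) : G) ∈ zpowers x from by
        obtain ⟨i, hi⟩ := mem_zpowers_iff.mp a.2
        exact mem_zpowers_iff.mpr ⟨i, by rw [← hi]; rfl⟩)⟩
    exact ⟨k, Subtype.ext (Subtype.ext (by simpa using congrArg Subtype.val hk))⟩
  obtain ⟨R, hR⟩ := hxp.exists_le_sylow
  obtain ⟨Q, hQ⟩ := (R.2.map C.subtype).exists_le_sylow
  obtain ⟨g, hg⟩ := MulAction.exists_smul_eq G Q P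
  set y : G := g * x * g⁻¹ with hy
  have hRP : ((R : Subgroup C).map C.subtype).map (MulAut.conj g).toMonoidHom ≤ (P : Subgroup G) := by
    rintro - ⟨a, ha, rfl⟩
    rw [← hg]
    exact ⟨a, hQ ha, rfl⟩
  have hyP : y ∈ (P : Subgroup G) :=
    hRP (mem_map_conj _ g (mem_map_of_mem C.subtype (hR (mem_zpowers (⟨x, hxC'⟩ : C)))))
  set yS : (P : Subgroup G) := ⟨y, hyP⟩ with hyS
  have hyN : y ∉ N := fun h => hxN (by
    have := hN.conj_mem _ h g⁻¹
    simpa [hy, mul_assoc] using this)
  suffices hyC : Nat.card (centralizer ({yS} : Set (P : Subgroup G))) = p ^ 2 by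
    refine ⟨x, hxP, ?_⟩
    have h1 : Nat.card (R : Subgroup C) ≤ p ^ 2 := by
      rw [← hyC, hcard yS, ← Subgroup.card_map_of_injective C.subtype_injective, ← card_map_conj _ g]
      refine card_le_of_le (le_inf hRP ?_)
      rintro - ⟨-, ⟨a, -, rfl⟩, rfl⟩
      refine mem_centralizer_singleton_iff.mpr ?_
      show g * (a : G) * g⁻¹ * (g * x * g⁻¹) = g * x * g⁻¹ * (g * (a : G) * g⁻¹)
      calc g * (a : G) * g⁻¹ * (g * x * g⁻¹) = g * ((a : G) * x) * g⁻¹ := by group
        _ = g * (x * (a : G)) * g⁻¹ := by rw [mem_centralizer_singleton_iff.mp a.2]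
        _ = _ := by group
    have h2' : p ^ 2 ∣ Nat.card C := hxPC ▸ card_dvd_of_le inf_le_right
    rw [R.card_eq_multiplicity, Nat.pow_le_pow_iff_right hpp.one_lt] at h1
    exact le_antisymm h1 ((hpp.pow_dvd_iff_le_factorization Nat.card_pos.ne').mp h2')
  -- Lemma A, transported
  obtain ⟨m, hm⟩ := IsPGroup.iff_card.mp (P.2.to_le (inf_le_right : M ≤ _))
  have hAx := not_sq_dvd m P N x hxP hxPC.le hxN hm
  have hconjC : ∀ (a b : G), a * b = b * a → ∀ f : G, (f⁻¹ * a * f) * (f⁻¹ * b * f) = (f⁻¹ * b * f) * (f⁻¹ * a * f) := by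
    intro a b hab f
    calc (f⁻¹ * a * f) * (f⁻¹ * b * f) = f⁻¹ * (a * b) * f := by group
      _ = f⁻¹ * (b * a) * f := by rw [hab]
      _ = _ := by group
  have hAy : ¬ p ^ 2 ∣ Nat.card ↥(N ⊓ centralizer {y}) := by
    intro h
    refine hAx (h.trans ?_)
    rw [← card_map_conj (N ⊓ centralizer {y}) g⁻¹]
    refine card_dvd_of_le ?_
    rintro - ⟨a, ha, rfl⟩
    refine mem_inf.mpr ⟨hN.conj_mem a (mem_inf.mp ha).1 g⁻¹, mem_centralizer_singleton_iff.mpr ?_⟩
    have h1 := hconjC a y (mem_centralizer_singleton_iff.mp (mem_inf.mp ha).2) g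
    rw [hy, show g⁻¹ * (g * x * g⁻¹) * g = x by group] at h1
    simpa using h1
  have hsmall : ∀ A : Subgroup (P : Subgroup G), A ≤ MS → (∀ a ∈ A, a * yS = yS * a) → Nat.card A < p ^ 2 := by
    intro A hAM hAc
    by_contra h
    push Not at h
    obtain ⟨j, hj⟩ := IsPGroup.iff_card.mp (P.2.to_subgroup A)
    rw [hj, Nat.pow_le_pow_iff_right hpp.one_lt] at h
    refine hAy ((pow_dvd_pow p h).trans ?_)
    rw [← hj, ← Subgroup.card_map_of_injective (P : Subgroup G).subtype_injective]
    refine card_dvd_of_le ?_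
    rintro - ⟨a, ha, rfl⟩
    exact mem_inf.mpr ⟨mem_subgroupOf.mp (hAM ha), mem_centralizer_singleton_iff.mpr
      (congrArg Subtype.val (hAc a ha))⟩
  have hyM : yS ∉ MS := fun h => hyN (mem_subgroupOf.mp h)
  rcases Nat.lt_or_ge n 4 with h4 | h4
  · exact card_centralizer_eq hn hP hmax
      (fun h => hyM (fil_le_of_normal hn hP hmax MS hMS2 le_rfl (by omega) h)) fun h => absurd h (by omega)
  have hcf := fun (k : ℕ) (hk : 2 ≤ k) (hk' : k ≤ n) => CfsgLib.MaxClassRank.card_fil hn hP hmax (j := k) hk hk'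
  have hbot := CfsgLib.MaxClassRank.fil_eq_bot hn hP hmax (j := n) le_rfl
  have hyW : yS ∉ twoStep (P : Subgroup G) (n - 2) := by
    intro h
    have h1 := hsmall (fil (P : Subgroup G) (n - 2))
      (fil_le_of_normal hn hP hmax MS hMS2 (by omega) (by omega)) fun a ha => by
        have h2 := mem_twoStep.mp h a ha
        rw [show n - 2 + 2 = n by omega, hbot, mem_bot, commutatorElement_eq_one_iff_mul_comm] at h2
        exact h2
    rw [hcf (n - 2) (by omega) (by omega), show n - (n - 2) = 2 by omega] at h1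
    exact lt_irrefl _ h1
  refine card_centralizer_eq hn hP hmax (fun h => hyW (CfsgLib.MaxClassGood.fil_le_twoStep _ h))
    fun _ => ⟨fun hy2 => ?_, hyW⟩
  -- the exceptional case
  by_cases hW : twoStep (P : Subgroup G) (n - 2) = twoStep (P : Subgroup G) 2
  · exact hyW (hW ▸ hy2)
  have h5 : 5 ≤ n := by
    by_contra h
    exact hW (by rw [show n - 2 = 2 by omega])
  have hkern : ∀ t : (P : Subgroup G), t ∈ twoStep (P : Subgroup G) 2 →
      p ^ 2 ≤ Nat.card ↥(fil (P : Subgroup G) (n - 3) ⊓ centralizer {t}) := by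
    intro t ht
    rw [← CfsgLib.MaxClassDegree.twoStep_eq hn hP hmax (k := n - 3) (by omega) (by omega)] at ht
    have h1 := CfsgLib.MaxClassRank.card_le_of_comm (x := t) (H := fil (P : Subgroup G) (n - 3))
      (N := fil (P : Subgroup G) (n - 1)) fun w hw => by
        have := mem_twoStep.mp ht w hw
        rwa [show n - 3 + 2 = n - 1 by omega] at this
    rw [hcf (n - 3) (by omega) (by omega), hcf (n - 1) (by omega) (by omega), show n - (n - 3) = 2 + 1 by omega,
      show n - (n - 1) = 1 by omega, pow_succ', pow_one] at h1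
    exact Nat.le_of_mul_le_mul_left h1 hpp.pos
  obtain ⟨j, hj⟩ := IsPGroup.iff_card.mp (P.2.to_le (inf_le_right : M ≤ _))
  rcases Nat.lt_or_ge j 3 with hj3 | hj3
  swap
  · have h1 := hsmall (fil (P : Subgroup G) (n - 3) ⊓ centralizer {yS})
      (inf_le_left.trans (fil_le_of_normal hn hP hmax MS (d := 3)
        (by rw [hMS, hj]; exact Nat.pow_le_pow_right hpp.pos hj3) (by omega) (by omega)))
      fun a ha => mem_centralizer_singleton_iff.mp (mem_inf.mp ha).2
    exact absurd h1 (not_lt.mpr (hkern yS hy2))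
  -- here `M` is the second centre
  have hMcard : Nat.card M = p ^ 2 := le_antisymm (hj ▸ Nat.pow_le_pow_right hpp.pos (by omega)) h2
  have hMS' : MS = fil (P : Subgroup G) (n - 2) :=
    (eq_of_le_of_card_ge (fil_le_of_normal hn hP hmax MS hMS2 (by omega) (by omega))
      (by rw [hMS, hMcard, hcf (n - 2) (by omega) (by omega), show n - (n - 2) = 2 by omega])).symm
  obtain ⟨zS, hzS⟩ := exists_prime_orderOf_dvd_card' (G := fil (P : Subgroup G) (n - 1)) p
    (by rw [hcf (n - 1) (by omega) (by omega), show n - (n - 1) = 1 by omega, pow_one])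
  have hzgen : zpowers (zS : (P : Subgroup G)) = fil (P : Subgroup G) (n - 1) :=
    eq_of_le_of_card_ge (zpowers_le.mpr zS.2)
      (by rw [Nat.card_zpowers, orderOf_coe, hzS, hcf (n - 1) (by omega) (by omega), show n - (n - 1) = 1 by omega, pow_one])
  set z : G := ((zS : (P : Subgroup G)) : G)
  set Zg := zpowers z
  have hzo : orderOf z = p := by rw [orderOf_coe, orderOf_coe, hzS]
  have hZmem : ∀ a : (P : Subgroup G), a ∈ fil (P : Subgroup G) (n - 1) → (a : G) ∈ Zg := fun a ha => by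
    obtain ⟨i, hi⟩ := mem_zpowers_iff.mp (hzgen.ge ha)
    exact mem_zpowers_iff.mpr ⟨i, by rw [← hi, SubgroupClass.coe_zpow]⟩
  have hzc : ∀ t : (P : Subgroup G), (t : G) * z = z * t := fun t => by
    have h1 := fil_commutator_mem (i := n - 1) (j := 1) zS.2 (mem_top t)
    rw [show n - 1 + 1 = n by omega, hbot, mem_bot, commutatorElement_eq_one_iff_mul_comm] at h1
    exact (congrArg Subtype.val h1).symm
  have hzN : z ∈ N := mem_subgroupOf.mp (hMS' ▸ fil_antitone (show n - 2 ≤ n - 1 by omega) zS.2 :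
    (zS : (P : Subgroup G)) ∈ MS)
  have hZfix : ∀ f : G, f * z * f⁻¹ ∈ Zg → f ∈ normalizer (Zg : Set G) := by
    intro f hf
    have hle : Zg.map (MulAut.conj f).toMonoidHom ≤ Zg := by
      rintro - ⟨a, ha, rfl⟩
      obtain ⟨i, rfl⟩ := mem_zpowers_iff.mp ha
      rw [MonoidHom.map_zpow]
      exact zpow_mem (by simpa using hf) i
    have heq := eq_of_le_of_card_ge hle (by rw [card_map_conj])
    rw [mem_normalizer_iff]
    intro t
    constructor
    · exact fun ht => hle (mem_map_conj _ f ht)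
    · intro ht
      obtain ⟨a, ha, e⟩ := heq.ge ht
      have : a = t := by simpa using e
      exact this ▸ ha
  have hMstab : ∀ t : (P : Subgroup G), M ≤ cosetStab Zg (t : G) := by
    intro t b hb
    obtain ⟨hbN, hbP⟩ := mem_inf.mp hb
    refine mem_cosetStab.mpr ⟨hZfix b ?_, _, ?_, (mul_inv_cancel_left (t : G) _).symm⟩
    · rw [hzc ⟨b, hbP⟩, mul_inv_cancel_right]; exact mem_zpowers z
    · have h1 := fil_commutator_mem (i := 1) (j := n - 2) (mem_top t⁻¹)
        (show (⟨b, hbP⟩ : (P : Subgroup G)) ∈ fil (P : Subgroup G) (n - 2) from hMS' ▸ mem_subgroupOf.mpr hbN)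
      rw [show 1 + (n - 2) = n - 1 by omega] at h1
      have h3 := hZmem _ h1
      simpa [commutatorElement_def, mul_assoc] using h3
  obtain ⟨c, hcK, hc⟩ := exists_conj_le (K := N ⊓ centralizer {y}) (A := Zg) (D := zpowers (g * z * g⁻¹))
    (zpowers_le.mpr (mem_inf.mpr ⟨hzN, mem_centralizer_singleton_iff.mpr (hzc yS).symm⟩))
    (zpowers_le.mpr (mem_inf.mpr ⟨hN.conj_mem z hzN g, mem_centralizer_singleton_iff.mpr (by
      have e := hconjC z x (hzc xS).symm g⁻¹
      simpa [hy] using e)⟩))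
    (k := 1) (by rw [Nat.card_zpowers, hzo, pow_one])
    (IsPGroup.of_card (n := 1) (by
      rw [Nat.card_zpowers, show g * z * g⁻¹ = MulAut.conj g z from rfl, MulEquiv.orderOf_eq, hzo, pow_one])) hAy
  set g₁ := c * g with hg₁
  have hg₁n : g₁ ∈ normalizer (Zg : Set G) := hZfix g₁ (by
    have := hc (mem_map_conj _ c (mem_zpowers (g * z * g⁻¹)))
    simpa [hg₁, mul_assoc] using this)
  have hg₁x : g₁ * x * g₁⁻¹ = y := by
    rw [hg₁, show c * g * x * (c * g)⁻¹ = c * (g * x * g⁻¹) * c⁻¹ by group, ← hy,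
      mem_centralizer_singleton_iff.mp (mem_inf.mp hcK).2, mul_inv_cancel_right]
  set K' := N ⊓ cosetStab Zg y
  obtain ⟨c', hc'K, hc'⟩ := exists_conj_le (K := K') (A := M) (D := M.map (MulAut.conj g₁).toMonoidHom)
    (le_inf inf_le_left (hMstab yS))
    (by
      rintro - ⟨b, hb, rfl⟩
      obtain ⟨hbn, a, ha, hba⟩ := mem_cosetStab.mp (hMstab xS hb)
      refine mem_inf.mpr ⟨hN.conj_mem b (mem_inf.mp hb).1 g₁, mem_cosetStab.mpr
        ⟨mul_mem (mul_mem hg₁n hbn) (inv_mem hg₁n), g₁ * a * g₁⁻¹, (mem_normalizer_iff.mp hg₁n a).mp ha, ?_⟩⟩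
      show g₁ * b * g₁⁻¹ * y * (g₁ * b * g₁⁻¹)⁻¹ = _
      rw [← hg₁x, show g₁ * b * g₁⁻¹ * (g₁ * x * g₁⁻¹) * (g₁ * b * g₁⁻¹)⁻¹ = g₁ * (b * x * b⁻¹) * g₁⁻¹ by group,
        show b * x * b⁻¹ = x * a from hba]
      group)
    hMcard ((P.2.to_le (inf_le_right : M ≤ _)).map _) (not_dvd_of_trace P N hMcard inf_le_left)
  set g₂ := c' * g₁ with hg₂
  have hg₂n : g₂ ∈ normalizer (M : Set G) := by
    have hle : M.map (MulAut.conj g₂).toMonoidHom ≤ M := by
      rintro - ⟨b, hb, rfl⟩
      have := hc' (mem_map_conj _ c' (mem_map_conj _ g₁ hb))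
      simpa [hg₂, mul_assoc] using this
    have heq := eq_of_le_of_card_ge hle (by rw [card_map_conj])
    rw [mem_normalizer_iff]
    intro t
    constructor
    · exact fun ht => hle (mem_map_conj _ g₂ ht)
    · intro ht
      obtain ⟨a, ha, e⟩ := heq.ge ht
      have : a = t := by simpa using e
      exact this ▸ ha
  obtain ⟨-, a, ha, hya⟩ := mem_cosetStab.mp (mem_inf.mp hc'K).2
  obtain ⟨i, rfl⟩ := mem_zpowers_iff.mp ha
  set y'S : (P : Subgroup G) := yS * (zS : (P : Subgroup G)) ^ i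
  have hy' : g₂ * x * g₂⁻¹ = (y'S : G) := by
    rw [hg₂, show c' * g₁ * x * (c' * g₁)⁻¹ = c' * (g₁ * x * g₁⁻¹) * c'⁻¹ by group, hg₁x, hya,
      Subgroup.coe_mul, SubgroupClass.coe_zpow]
  have hy'2 : y'S ∈ twoStep (P : Subgroup G) 2 := mul_mem hy2
    (zpow_mem (CfsgLib.MaxClassGood.fil_le_twoStep 2 (fil_antitone (show 2 ≤ n - 1 by omega) zS.2)) i)
  have hxW : xS ∉ twoStep (P : Subgroup G) (n - 2) := by
    intro h
    have h1 : Nat.card MS ≤ Nat.card ↥(MS ⊓ centralizer {xS}) := card_le_of_le (le_inf le_rfl fun b hb => by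
      refine mem_centralizer_singleton_iff.mpr ?_
      have h2' := mem_twoStep.mp h b (hMS' ▸ hb)
      rw [show n - 2 + 2 = n by omega, hbot, mem_bot, commutatorElement_eq_one_iff_mul_comm] at h2'
      exact h2')
    have hlt : MS ⊓ centralizer {xS} < centralizer {xS} := lt_of_le_of_ne inf_le_right fun e =>
      hxM (mem_inf.mp (e.ge (mem_centralizer_singleton_iff.mpr rfl))).1
    have h3 : Nat.card ↥(MS ⊓ centralizer {xS}) < p ^ 2 := hxC ▸ lt_of_le_of_ne (card_le_of_le hlt.le)
      fun e => hlt.ne (eq_of_le_of_card_ge hlt.le e.ge)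
    omega
  set Gh := normalizer (M : Set G)
  have hPGh : (P : Subgroup G) ≤ Gh := fun f hf => by
    rw [mem_normalizer_iff]
    intro t
    constructor
    · exact fun ht => mem_inf.mpr ⟨hN.conj_mem t (mem_inf.mp ht).1 f, mul_mem (mul_mem hf (mem_inf.mp ht).2) (inv_mem hf)⟩
    · intro ht
      have e1 := hN.conj_mem _ (mem_inf.mp ht).1 f⁻¹
      have e2 := mul_mem (mul_mem (inv_mem hf) (mem_inf.mp ht).2) hf
      exact mem_inf.mpr ⟨by simpa [mul_assoc] using e1, by simpa [mul_assoc] using e2⟩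
  set N' := (centralizer (M : Set G)).subgroupOf Gh with hN'
  haveI : N'.Normal := ⟨fun b hb f => mem_subgroupOf.mpr (mem_centralizer_iff.mpr fun t ht => by
    have h1 := mem_centralizer_iff.mp (mem_subgroupOf.mp hb) _ ((mem_normalizer_iff.mp (inv_mem f.2) t).mp ht)
    simp only [inv_inv] at h1
    show t * ((f : G) * b * (f : G)⁻¹) = (f : G) * b * (f : G)⁻¹ * t
    calc t * ((f : G) * b * (f : G)⁻¹) = (f : G) * ((f : G)⁻¹ * t * f * b) * (f : G)⁻¹ := by group
      _ = (f : G) * (b * ((f : G)⁻¹ * t * f)) * (f : G)⁻¹ := by rw [h1]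
      _ = _ := by group)⟩
  set Ph := P.subtype hPGh
  obtain ⟨k, hk⟩ := IsPGroup.iff_card.mp (Ph.2.to_le (inf_le_right : N' ⊓ (Ph : Subgroup Gh) ≤ _))
  have hB := not_sq_dvd k Ph N' ⟨x, hPGh hxP⟩ (show (⟨x, _⟩ : Gh) ∈ (Ph : Subgroup Gh) from hxP) (by
      refine le_trans ?_ hxPC.le
      rw [← Subgroup.card_map_of_injective Gh.subtype_injective]
      refine card_le_of_le ?_
      rintro - ⟨b, hb, rfl⟩
      exact mem_inf.mpr ⟨(mem_inf.mp hb).1, mem_centralizer_singleton_iff.mpr
        (congrArg Subtype.val (mem_centralizer_singleton_iff.mp (mem_inf.mp hb).2))⟩)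
    (fun h => hxW (mem_twoStep.mpr fun w hw => by
      rw [show n - 2 + 2 = n by omega, hbot, mem_bot, commutatorElement_eq_one_iff_mul_comm]
      have hwM : (w : G) ∈ M := mem_inf.mpr ⟨mem_subgroupOf.mp (hMS'.symm ▸ hw : w ∈ MS), w.2⟩
      exact Subtype.ext (mem_centralizer_iff.mp (mem_subgroupOf.mp h) _ hwM))) hk
  refine hB ?_
  set E := fil (P : Subgroup G) (n - 3) ⊓ centralizer {y'S}
  obtain ⟨l, hl⟩ := IsPGroup.iff_card.mp (P.2.to_subgroup E)
  have hl2 : 2 ≤ l := by
    have := hkern y'S hy'2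
    rw [hl, Nat.pow_le_pow_iff_right hpp.one_lt] at this
    exact this
  refine (pow_dvd_pow p hl2).trans ?_
  rw [← hl, ← Subgroup.card_map_of_injective (P : Subgroup G).subtype_injective, ← card_map_conj _ g₂⁻¹]
  refine (?_ : _ ∣ Nat.card ↥((N' ⊓ centralizer {(⟨x, hPGh hxP⟩ : Gh)}).map Gh.subtype)).trans
    (dvd_of_eq (Subgroup.card_map_of_injective Gh.subtype_injective))
  refine card_dvd_of_le ?_
  rintro - ⟨-, ⟨e, he, rfl⟩, rfl⟩
  obtain ⟨he1, he2⟩ := mem_inf.mp he
  have hcM : (MulAut.conj g₂⁻¹).toMonoidHom (e : G) ∈ centralizer (M : Set G) := by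
    refine mem_centralizer_iff.mpr fun t ht => ?_
    have hte : g₂ * t * g₂⁻¹ ∈ M := (mem_normalizer_iff.mp hg₂n t).mp ht
    have hwS : (⟨_, (mem_inf.mp hte).2⟩ : (P : Subgroup G)) ∈ fil (P : Subgroup G) (n - 2) :=
      hMS' ▸ mem_subgroupOf.mpr (mem_inf.mp hte).1
    have h1 := fil_commutator_mem (i := n - 2) (j := 2) hwS (fil_antitone (show 2 ≤ n - 3 by omega) he1)
    rw [show n - 2 + 2 = n by omega, hbot, mem_bot, commutatorElement_eq_one_iff_mul_comm] at h1
    have h2' := hconjC _ _ (congrArg Subtype.val h1) g₂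
    simpa [mul_assoc] using h2'
  refine ⟨⟨_, centralizer_le_normalizer _ hcM⟩, mem_inf.mpr ⟨hcM, mem_centralizer_singleton_iff.mpr (Subtype.ext ?_)⟩, rfl⟩
  have h1 := hconjC _ _ (congrArg Subtype.val (mem_centralizer_singleton_iff.mp he2)) g₂
  rw [← hy', show g₂⁻¹ * (g₂ * x * g₂⁻¹) * g₂ = x by group] at h1
  simpa [mul_assoc] using h1

/-- The alternative of S3865. -/
theorem main (hP : Nat.card P = p ^ n) (hn : 2 ≤ n)
    (hmax : Group.nilpotencyClass ↥(P : Subgroup G) = n - 1) (hcore : Cfsg.pPrimeCore p G = ⊥)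
    (hres : ∀ N : Subgroup G, N.Normal → (N.index).Coprime p → N = ⊤) :
    (∃ x ∈ (P : Subgroup G), (Nat.card (centralizer ({x} : Set G))).factorization p = 2) ∨
      (Cfsg.IsQuasisimple G ∧ Nat.card (center G) ≤ p) := by
  have hpp : p.Prime := hp.out
  rcases Nat.lt_or_ge n 3 with hn3 | hn3
  · refine Or.inl ⟨1, one_mem _, ?_⟩
    have h1 : centralizer ({(1 : G)} : Set G) = ⊤ := eq_top_iff.mpr fun g _ => mem_centralizer_singleton_iff.mpr (by simp)
    rw [h1, card_top]
    have h2 := P.card_eq_multiplicity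
    rw [hP] at h2
    rw [← Nat.pow_right_injective hpp.two_le h2]
    omega
  have htop : ∀ N : Subgroup G, N.Normal → (P : Subgroup G) ≤ N → N = ⊤ := fun N hN hPN =>
    hres N hN (Nat.Coprime.coprime_dvd_left (index_dvd_of_le hPN)
      ((hpp.coprime_iff_not_dvd.mpr P.not_dvd_index).symm))
  by_cases hex : ∃ N : Subgroup G, N.Normal ∧ N ≠ ⊤ ∧ p ^ 2 ≤ Nat.card ↥(N ⊓ (P : Subgroup G))
  · obtain ⟨N, hN, hNne, h2⟩ := hex
    haveI := hN
    exact Or.inl (exists_of_normal P hP hn3 hmax N h2 fun h => hNne (htop N hN h))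
  push Not at hex
  refine Or.inr ?_
  have hsmallN : ∀ N : Subgroup G, N.Normal → N ≠ ⊤ → N ≤ center G ∧ Nat.card N ≤ p := by
    intro N hN hNne
    haveI := hN
    obtain ⟨j, hj⟩ := IsPGroup.iff_card.mp (P.2.to_le (inf_le_right : N ⊓ (P : Subgroup G) ≤ _))
    have hj1 : j < 2 := by
      have := hex N hN hNne
      rwa [hj, Nat.pow_lt_pow_iff_right hpp.one_lt] at this
    rcases Nat.le_one_iff_eq_zero_or_eq_one.mp (show j ≤ 1 by omega) with rfl | rfl
    · have hc : (Nat.card N).Coprime p := (hpp.coprime_iff_not_dvd.mpr fun h =>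
        not_dvd_of_trace P N hj (K := N) le_rfl (by simpa using h)).symm
      have : N ≤ Cfsg.pPrimeCore p G := le_sSup ⟨hN, hc⟩
      rw [hcore, le_bot_iff] at this
      subst this
      exact ⟨bot_le, by rw [card_bot]; exact hpp.one_lt.le⟩
    · rw [pow_one] at hj
      set Z := (N ⊓ (P : Subgroup G)).subgroupOf (P : Subgroup G)
      haveI : Z.Normal := by rw [show Z = N.subgroupOf (P : Subgroup G) from inf_subgroupOf_right _ _]; infer_instance
      have hZc : Nat.card Z = p := (Nat.card_congr (subgroupOfEquivOfLe inf_le_right).toEquiv).trans hj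
      have hZ : Z.index = p ^ (n - 1) := by
        have h1 := Z.card_mul_index
        rw [hZc, hP, show p ^ n = p * p ^ (n - 1) by rw [← pow_succ']; congr 1; omega] at h1
        exact Nat.eq_of_mul_eq_mul_left hpp.pos h1
      have hΦ : Z ≤ frattini (P : Subgroup G) := by
        rw [CfsgLib.MaximalClass.normal_eq_lcs hn3 hP hmax Z (r := n - 1) (by omega) hZ]
        refine le_trans ?_ (CfsgLib.commutator_le_frattini_pGroup P.2)
        rw [← Subgroup.top_lowerCentralSeries_one]
        exact Subgroup.lowerCentralSeries_antitone _ (by omega)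
      have hNP := le_sylow_of_trace P hcore N hj hΦ
      have hNP' : N ⊓ (P : Subgroup G) = N := inf_of_le_left hNP
      refine ⟨?_, by rw [← hNP', hj]⟩
      obtain ⟨z, hzZ, hzc, hzo⟩ := exists_central_orderOf P.2 Z
        (fun e => by rw [e, card_bot] at hZc; exact hpp.one_lt.ne hZc)
      have hgen : zpowers (z : G) = N := eq_of_le_of_card_ge
        (zpowers_le.mpr (mem_inf.mp (mem_subgroupOf.mp hzZ)).1)
        (by rw [Nat.card_zpowers, orderOf_coe, hzo, ← hNP', hj])
      have hPC : (P : Subgroup G) ≤ centralizer (N : Set G) := fun f hf => mem_centralizer_iff.mpr fun t ht => by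
        obtain ⟨i, rfl⟩ := mem_zpowers_iff.mp (hgen.ge ht)
        exact ((Commute.zpow_left (congrArg Subtype.val (mem_center_iff.mp hzc ⟨f, hf⟩)).symm i)).eq
      have hC := htop _ inferInstance hPC
      exact fun t ht => mem_center_iff.mpr fun f =>
        (mem_centralizer_iff.mp (hC.ge (mem_top f)) t ht).symm
  have hperf : commutator G = ⊤ := by
    by_contra hne
    have hcen := (hsmallN _ inferInstance hne).1
    haveI : Group.IsNilpotent G := by
      refine Group.of_quotient_center_nilpotent ?_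
      have hcomm : IsMulCommutative (G ⧸ center G) := ⟨⟨fun a b => by
        obtain ⟨a, rfl⟩ := QuotientGroup.mk'_surjective _ a
        obtain ⟨b, rfl⟩ := QuotientGroup.mk'_surjective _ b
        rw [← commutatorElement_eq_one_iff_mul_comm, ← map_commutatorElement]
        exact (QuotientGroup.eq_one_iff _).mpr (hcen (commutator_mem_commutator (mem_top a) (mem_top b)))⟩⟩
      exact @CommGroup.isNilpotent _ { (inferInstance : Group (G ⧸ center G)) with mul_comm := hcomm.is_comm.comm }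
    haveI : (P : Subgroup G).Normal := Sylow.normal_of_normalizerCondition Group.normalizerCondition_of_isNilpotent P
    have hPtop : (P : Subgroup G) = ⊤ := htop _ inferInstance le_rfl
    have hGcard : Nat.card G = p ^ n := by rw [← card_top (G := G), ← hPtop]; exact hP
    obtain ⟨B, hB⟩ := Sylow.exists_subgroup_card_pow_prime p (hGcard ▸ pow_dvd_pow p (Nat.sub_le n 1) :
      p ^ (n - 1) ∣ Nat.card G)
    have hBi : B.index = p := by
      have h1 := B.card_mul_index
      rw [hB, hGcard, show p ^ n = p ^ (n - 1) * p by rw [← pow_succ]; congr 1; omega] at h1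
      exact Nat.eq_of_mul_eq_mul_left (pow_pos hpp.pos _) h1
    have hBn : B.Normal := Subgroup.normal_of_index_eq_minFac_card
      (by rw [hBi, hGcard, Nat.pow_minFac (by omega), hpp.minFac_eq])
    have hBne : B ≠ ⊤ := fun e => by rw [e, index_top] at hBi; exact hpp.one_lt.ne hBi
    have h1 := (hsmallN B hBn hBne).2
    rw [hB] at h1
    have : p ^ 1 < p ^ (n - 1) := Nat.pow_lt_pow_right hpp.one_lt (by omega)
    rw [pow_one] at this
    omega
  have hcne : center G ≠ ⊤ := fun e => by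
    have h : commutator G = ⊥ := commutator_def G ▸ (commutator_eq_bot_iff_le_centralizer.mpr fun f _ =>
      mem_centralizer_iff.mpr fun t _ => mem_center_iff.mp (e.ge (mem_top f)) t)
    have hnt : Nontrivial G := by
      rw [← Finite.one_lt_card_iff_nontrivial]
      exact lt_of_lt_of_le (Nat.one_lt_pow (by omega) hpp.one_lt) (hP ▸ card_le_card_group (P : Subgroup G))
    exact bot_ne_top (h.symm.trans hperf)
  refine ⟨⟨⟨hperf⟩, ?_⟩, (hsmallN _ inferInstance hcne).2⟩
  haveI : Nontrivial (G ⧸ center G) := QuotientGroup.nontrivial_iff.mpr hcne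
  refine ⟨fun B hB => ?_⟩
  rcases eq_or_ne (B.comap (QuotientGroup.mk' (center G))) ⊤ with e | e
  · refine Or.inr ?_
    rw [← map_comap_eq_self_of_surjective (QuotientGroup.mk'_surjective (center G)) B, e,
      map_top_of_surjective _ (QuotientGroup.mk'_surjective _)]
  · refine Or.inl ?_
    have h1 := (hsmallN _ (hB.comap _) e).1
    rw [← map_comap_eq_self_of_surjective (QuotientGroup.mk'_surjective (center G)) B, Subgroup.map_eq_bot_iff,
      QuotientGroup.ker_mk']
    exact h1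

end CfsgLib.MaxClassFusion
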